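import Groth.Agent.Lib.Cyc26.BaseChange
import Groth.Agent.Lib.Cyc26.FinFlat
import Groth.Agent.Lib.Cyc26.PushRat
import Groth.Agent.Lib.Cyc26.RatPull
import Groth.Agent.Lib.Cyc26.Frac
import Groth.Agent.Lib.Cyc26.C1Flat
import Groth.Agent.Lib.Cyc26.SplitBase
import Groth.Agent.Lib.Cyc26.PnChow
import Groth.Agent.Lib.Cyc26.ChernFun
import Groth.Agent.Lib.Bivar12.Envelope
import Groth.Agent.Lib.Bivar12.Transport
import Mathlib.AlgebraicGeometry.Morphisms.FlatRank

/-! # Dimension shifts, and pullback of cycles to a base change -/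

set_option autoImplicit false
universe u
set_option backward.isDefEq.respectTransparency.types false

open CategoryTheory Limits AlgebraicGeometry

namespace Groth.Agent.Cyc26C

section shift

variable {X Y : Scheme.{u}}

theorem pullFun_zsmul (f : X ⟶ Y) (δX : X → ℤ) (δY : Y → ℤ) (r m : ℤ) (α : AlgebraicCycle Y ℤ) :
    Cyc.pullFun f δX δY r ⇑(m • α) = m • Cyc.pullFun f δX δY r ⇑α := by
  funext x
  show _ = m • Cyc.pullFun f δX δY r ⇑α x
  simp only [Cyc.pullFun]
  split_ifs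
  · show (m • ⇑α) (f x) * _ = _
    rw [Pi.smul_apply, smul_eq_mul, smul_eq_mul, mul_assoc]
  · rw [smul_zero]

theorem pullFun_add_left (f : X ⟶ Y) (δX : X → ℤ) (δY : Y → ℤ) (r c : ℤ) (α : Y → ℤ) :
    Cyc.pullFun f (fun x => δX x + c) δY (r + c) α = Cyc.pullFun f δX δY r α := by
  funext x
  simp only [Cyc.pullFun]
  exact if_congr (by constructor <;> intro h <;> omega) rfl rfl

theorem divFun_add (δ : X → ℤ) (c : ℤ) (ξ : X) (f : X.residueField ξ) :
    Cyc.divFun (fun x => δ x + c) ξ f = Cyc.divFun δ ξ f := by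
  funext x
  simp only [Cyc.divFun]
  have h : (ξ ⤳ x ∧ δ x + c + 1 = δ ξ + c) ↔ (ξ ⤳ x ∧ δ x + 1 = δ ξ) :=
    and_congr_right fun _ => by constructor <;> intro h <;> omega
  split_ifs with h1 h2 h2
  · rfl
  · exact absurd (h.1 h1) h2
  · exact absurd (h.2 h2) h1
  · rfl

theorem ratEquivZero_add {δ : X → ℤ} {k : ℤ} {α : AlgebraicCycle X ℤ} (h : Cyc.RatEquivZero δ k α) (c : ℤ) :
    Cyc.RatEquivZero (fun x => δ x + c) (k + c) α := by
  obtain ⟨ι, ξ, f, h1, h2, h3, h4⟩ := h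
  exact ⟨ι, ξ, f, fun i => by show δ (ξ i) + c = _; rw [h1 i]; ring, h2, h3, fun x => (h4 x).trans
    (finsum_congr fun i => by rw [divFun_add])⟩

theorem isSetup_add {δ : X → ℤ} (h : Cyc.IsSetup X δ) (c : ℤ) : Cyc.IsSetup X (fun x => δ x + c) :=
  ⟨h.1, h.2.1, fun x y hs hne => ⟨by show δ y + c < δ x + c; linarith [(h.2.2 x y hs hne).1],
    fun hz => by show δ x + c = δ y + c + 1; linarith [(h.2.2 x y hs hne).2 hz]⟩⟩

theorem deltaCompat_add {f : X ⟶ Y} {δX : X → ℤ} {δY : Y → ℤ} (h : Cyc.DeltaCompat f δX δY) (c : ℤ) :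
    Cyc.DeltaCompat f (fun x => δX x + c) (fun y => δY y + c) := fun x => by
  obtain ⟨n, h1, h2⟩ := h x
  exact ⟨n, h1, by show δX x + c = δY (f x) + c + n; rw [h2]; ring⟩

theorem deltaCompat_zero_of_finite (f : X ⟶ Y) [IsFinite f] :
    Cyc.DeltaCompat f (fun _ => 0) (fun _ => 0) := by
  obtain ⟨δ', h⟩ := Bivar12.exists_deltaCompat f (fun _ => 0)
  have e : δ' = fun _ => 0 := funext fun x => Cyc26.delta_eq_of_finite f h x
  exact e ▸ h

/-- Pushing forward a vanishing pullback along a finite flat morphism of constant degree. -/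
theorem finitePush (p : X ⟶ Y) [IsFinite p] [Flat p] {δX : X → ℤ} {δY : Y → ℤ} (hX : Cyc.IsSetup X δX)
    (hY : Cyc.IsSetup Y δY) (hδ : Cyc.DeltaCompat p δX δY) {d : ℕ} (hd : ∀ y, p.finrank y = d) {n : ℤ}
    (α : AlgebraicCycle Y ℤ) {γ : AlgebraicCycle X ℤ} (hγ : ⇑γ = Cyc.pullFun p δX δY 0 ⇑α)
    (h0 : Cyc.RatEquivZero δX n γ) : Cyc.RatEquivZero δY n ((d : ℤ) • α) := by
  haveI := hX.1
  haveI := hY.1
  have e : AlgebraicCycle.map p δX δY γ = (d : ℤ) • α := by
    refine DFunLike.ext _ _ fun y => ?_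
    rw [Cyc26.map_pullFun_finite_flat p hδ α γ hγ y, hd y]
    rfl
  exact e ▸ Cyc26.ratEquivZero_map p hX.2.2 hY.2.2 hδ h0

end shift

variable {S S' X X' : Scheme.{u}} {a : X ⟶ S} {g : S' ⟶ S} {p : X' ⟶ X} {q : X' ⟶ S'}

/-- The shift of the induced dimension functions along a flat base change. -/
theorem delta_fibreMax (hsq : IsPullback p q a g) [Flat g] [LocallyOfFiniteType a]
    {δS : S → ℤ} {δS' : S' → ℤ} {c : ℤ}
    (hc : ∀ s' : S', (∀ y, g y = g s' → y ⤳ s' → y = s') → δS' s' = δS (g s') + c)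
    {δX : X → ℤ} (hX : Cyc.DeltaCompat a δX δS) {δX' : X' → ℤ} (hX' : Cyc.DeltaCompat q δX' δS')
    (z : X') (hz : ∀ w, p w = p z → w ⤳ z → w = z) : δX' z = δX (p z) + c := by
  haveI : LocallyOfFiniteType q := MorphismProperty.of_isPullback hsq inferInstance
  have h0 : g (q z) = a (p z) := by rw [← Scheme.Hom.comp_apply, ← hsq.w, Scheme.Hom.comp_apply]
  have hmax : ∀ y : S', g y = g (q z) → y ⤳ q z → y = q z := by
    intro y hy hsp
    obtain ⟨pr, hpr, sq⟩ := FibDim14.exists_fibre_square hsq.flip (p z)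
    haveI : Flat pr := MorphismProperty.of_isPullback sq.flip inferInstance
    let zy := (g.fiberHomeo (a (p z))).symm ⟨y, hy.trans h0⟩
    have hzy : g.fiberι _ zy = y := g.fiberι_fiberHomeo_symm _ _
    have hsp' : zy ⤳ pr (p.asFiber z) := by
      rw [← (g.fiberι (a (p z))).isEmbedding.isInducing.specializes_iff, hzy, hpr, p.fiberι_asFiber]
      exact hsp
    obtain ⟨w, hw, hwz⟩ := DimF18.exists_lift_specializes pr hsp'
    have h1 := hz (p.fiberι _ w) ((p.range_fiberι (p z)).le ⟨w, rfl⟩) (by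
      have h2 := hw.map (p.fiberι (p z)).continuous
      rwa [p.fiberι_asFiber] at h2)
    have h2 := hpr w
    rw [hwz, hzy, h1] at h2
    exact h2
  have e : FibDim14.rd q z = FibDim14.rd a (p z) := by
    obtain ⟨pr, hpr, sq⟩ := FibDim14.exists_fibre_square hsq (q z)
    have h := (DimF18.sdim_bc sq (q.asFiber z)).2 fun w hw hpw => by
      obtain ⟨h1, -⟩ := FibDim14.fiberι_mem q hw
      have hp : p (q.fiberι _ w) = p z := by
        have h2 := hpr w
        rw [hpw, hpr, q.fiberι_asFiber] at h2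
        exact h2.symm
      exact (q.fiberι (q z)).isEmbedding.injective ((hz _ hp h1).trans (q.fiberι_asFiber z).symm)
    rwa [← FibDim14.rd_fiberι, ← FibDim14.rd_fiberι, hpr, q.fiberι_asFiber] at h
  rw [UCat26.delta_eq_add_rd q hX' z, hc _ hmax, h0, e, UCat26.delta_eq_add_rd a hX (p z)]
  ring

/-- The induced dimension function is at most the shifted one. -/
theorem delta_le (hsq : IsPullback p q a g) [Flat g] [LocallyOfFiniteType a]
    {δS : S → ℤ} {δS' : S' → ℤ} {c : ℤ}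
    (hc : ∀ s' : S', (∀ y, g y = g s' → y ⤳ s' → y = s') → δS' s' = δS (g s') + c)
    {δX : X → ℤ} (hX : Cyc.DeltaCompat a δX δS) {δX' : X' → ℤ} (hX' : Cyc.DeltaCompat q δX' δS')
    (hs : Cyc.IsSetup X' δX') (z : X') : δX' z ≤ δX (p z) + c := by
  haveI := hs.1
  obtain ⟨x₀, h1, h2, h3⟩ := Cyc26.exists_maximal_fibre hs.2.2 p z
  have := delta_fibreMax hsq hc hX hX' x₀ h3
  rw [h2] at this
  have := UCat26.delta_le_of_specializes hs.2.2 h1
  omega

/-- Pullback of cycles along a field extension is injective up to torsion. -/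
def Inj {k K : Type u} [Field k] [Field K] (φ : k →+* K) : Prop :=
  ∀ (X : Scheme.{u}) (a : X ⟶ Spec (CommRingCat.of k)) [LocallyOfFiniteType a] [QuasiCompact a]
    (δ : X → ℤ), Cyc.DeltaCompat a δ (fun _ => 0) →
    ∀ (P : Scheme.{u}) (p : P ⟶ X) (q : P ⟶ Spec (CommRingCat.of K)),
      IsPullback p q a (Spec.map (CommRingCat.ofHom φ)) →
      ∀ δ' : P → ℤ, Cyc.DeltaCompat q δ' (fun _ => 0) →
        ∀ (n : ℤ) (α : AlgebraicCycle X ℤ), α ∈ Cyc.Zk X δ n →
          ∀ γ : AlgebraicCycle P ℤ, ⇑γ = Cyc.pullFun p δ' δ 0 ⇑α → Cyc.RatEquivZero δ' n γ →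
            ∃ m : ℤ, m ≠ 0 ∧ Cyc.RatEquivZero δ n (m • α)

variable {k K L : Type u} [Field k] [Field K] [Field L]

theorem inj_of_finite (φ : k →+* K) (hφ : φ.Finite) : Inj φ := by
  intro X a _ _ δ hδ P p q hsq δ' hδ' n α hα γ hγ h0
  letI := φ.toAlgebra
  haveI : Module.Finite k K := hφ
  haveI : IsFinite (Spec.map (CommRingCat.ofHom φ)) := (IsFinite.SpecMap_iff _).2 hφ
  haveI : Flat (Spec.map (CommRingCat.ofHom φ)) := Cyc26.flat_specMap_field _
  haveI : IsFinite p := MorphismProperty.of_isPullback hsq.flip inferInstance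
  haveI : Flat p := MorphismProperty.of_isPullback hsq.flip inferInstance
  haveI : LocallyOfFiniteType q := MorphismProperty.of_isPullback hsq inferInstance
  have hX := Cyc26Split.isSetup_of_lft a (Cyc26Pn.isSetup_point k) hδ
  have hP := Cyc26Split.isSetup_of_lft q (Cyc26Pn.isSetup_point K) hδ'
  have hpδ : Cyc.DeltaCompat p δ' δ := Bivar12.deltaCompat_cancel p a hδ
    (hsq.w ▸ Cyc26A.deltaCompat_comp q _ hδ' (deltaCompat_zero_of_finite (Spec.map (CommRingCat.ofHom φ))))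
  have hd : ∀ y, p.finrank y = Module.finrank k K := fun y => by
    rw [Scheme.Hom.finrank_of_isPullback q p _ a hsq.flip y]
    show Scheme.Hom.finrank (Spec.map (CommRingCat.ofHom (algebraMap k K))) _ = _
    rw [Scheme.Hom.finrank_SpecMap_algebraMap, Module.rankAtStalk_eq_finrank_of_free]
    rfl
  exact ⟨Module.finrank k K, by exact_mod_cast Module.finrank_pos.ne', finitePush p hP hX hpδ hd α hγ h0⟩

theorem Inj.comp {φ : k →+* K} {ψ : K →+* L} (hφ : Inj φ) (hψ : Inj ψ) : Inj (ψ.comp φ) := by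
  intro X a _ _ δ hδ P p q hsq δ' hδ' n α hα γ hγ h0
  have hmap : Spec.map (CommRingCat.ofHom (ψ.comp φ)) =
      Spec.map (CommRingCat.ofHom ψ) ≫ Spec.map (CommRingCat.ofHom φ) := by
    rw [CommRingCat.ofHom_comp, Spec.map_comp]
  rw [hmap] at hsq
  have h1 := IsPullback.of_hasPullback a (Spec.map (CommRingCat.ofHom φ))
  let r : P ⟶ pullback a (Spec.map (CommRingCat.ofHom φ)) :=
    pullback.lift p (q ≫ Spec.map (CommRingCat.ofHom ψ)) (by rw [Category.assoc]; exact hsq.w)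
  have hr : r ≫ pullback.fst _ _ = p := pullback.lift_fst _ _ _
  have hsq2 : IsPullback r q (pullback.snd a (Spec.map (CommRingCat.ofHom φ))) (Spec.map (CommRingCat.ofHom ψ)) := by
    refine IsPullback.of_right ?_ (show r ≫ pullback.snd _ _ = q ≫ Spec.map (CommRingCat.ofHom ψ) from pullback.lift_snd _ _ _) h1
    rw [hr]
    exact hsq
  haveI : Flat (Spec.map (CommRingCat.ofHom φ)) := Cyc26.flat_specMap_field _
  haveI : Flat (Spec.map (CommRingCat.ofHom ψ)) := Cyc26.flat_specMap_field _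
  haveI : Flat r := MorphismProperty.of_isPullback hsq2.flip inferInstance
  haveI : LocallyOfFiniteType q := MorphismProperty.of_isPullback hsq2 inferInstance
  obtain ⟨δ1, hδ1⟩ := Bivar12.exists_deltaCompat (pullback.snd a (Spec.map (CommRingCat.ofHom φ))) (fun _ => 0)
  have hP1 := Cyc26Split.isSetup_of_lft _ (Cyc26Pn.isSetup_point K) hδ1
  have hP := Cyc26Split.isSetup_of_lft q (Cyc26Pn.isSetup_point L) hδ'
  haveI := hP1.1
  haveI := hP.1
  have hc := delta_fibreMax h1 (c := 0) (fun _ _ => (add_zero _).symm) hδ hδ1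
  have hc' := delta_fibreMax hsq2 (c := 0) (fun _ _ => (add_zero _).symm) hδ1 hδ'
  obtain ⟨γ1, hγ1⟩ := Cyc26.exists_cycle_pullFun _ hP1.2.2 hc α
  have hγ1Z : γ1 ∈ Cyc.Zk _ δ1 n := fun z hz => by
    rw [hγ1]
    simp only [Cyc.pullFun]
    split_ifs with h
    · rw [hα _ (fun e => hz (by rw [h, e, add_zero])), zero_mul]
    · rfl
  have hγ' : ⇑γ = Cyc.pullFun r δ' δ1 0 ⇑γ1 := by
    rw [hγ, hγ1]
    have h2 := (Cyc26.pullFun_comp_shift r (pullback.fst _ _) hP.2.2 hP1.2.2 hc hc' ⇑α).2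
    rw [hr, add_zero] at h2
    exact h2
  obtain ⟨m, hm, hm0⟩ := hψ _ (pullback.snd a (Spec.map (CommRingCat.ofHom φ))) δ1 hδ1 P r q hsq2 δ' hδ' n γ1 hγ1Z γ hγ' h0
  obtain ⟨m', hm', h'⟩ := hφ X a δ hδ _ _ _ h1 δ1 hδ1 n (m • α)
    (fun z hz => by show m • α z = 0; rw [hα z hz, smul_zero]) (m • γ1)
    (by rw [pullFun_zsmul, ← hγ1]; rfl) hm0
  exact ⟨m' * m, mul_ne_zero hm' hm, by rwa [mul_smul]⟩

end Groth.Agent.Cyc26C
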