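import Groth.Agent.Lib.Cyc26C.Poly
import Mathlib.FieldTheory.IntermediateField.Adjoin.Basic
import Mathlib.FieldTheory.IntermediateField.Adjoin.Algebra

/-! # Pullback along any field extension is injective up to torsion -/

set_option autoImplicit false
universe u
set_option backward.isDefEq.respectTransparency false
set_option backward.isDefEq.respectTransparency.types false

open CategoryTheory Limits AlgebraicGeometry Opposite Polynomial IntermediateField

noncomputable section

namespace Groth.Agent.Cyc26C

/-- An extension generated by one element. -/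
theorem inj_simple (k K : Type u) [Field k] [Field K] [Algebra k K] (a : K) (ha : k⟮a⟯ = ⊤) :
    Inj (algebraMap k K) := by
  by_cases h : IsAlgebraic k a
  · haveI := IntermediateField.adjoin.finiteDimensional h.isIntegral
    haveI : Module.Finite k K := Module.Finite.equiv
      ((IntermediateField.equivOfEq ha).trans IntermediateField.topEquiv).toLinearEquiv
    exact inj_of_finite _ (RingHom.finite_algebraMap.2 inferInstance)
  have hinj : Function.Injective (aeval (R := k) a).toRingHom := transcendental_iff_injective.1 h
  let e : FractionRing k[X] →+* K := IsFractionRing.lift hinj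
  have he : ∀ p, e (algebraMap k[X] _ p) = aeval a p := IsFractionRing.lift_algebraMap hinj
  have hφ : algebraMap k K = e.comp ((algebraMap k[X] (FractionRing k[X])).comp C) := RingHom.ext fun x => by
    rw [RingHom.comp_apply, RingHom.comp_apply, he, aeval_C]
  have hsurj : Function.Surjective e := by
    intro y
    obtain ⟨p, q, rfl⟩ := IntermediateField.mem_adjoin_simple_iff k (α := a) y |>.1 (ha ▸ trivial)
    exact ⟨algebraMap k[X] _ p / algebraMap k[X] _ q, by rw [map_div₀, he, he]⟩
  rw [hφ]
  exact (inj_fractionRing k).comp (inj_of_finite e (RingHom.Finite.of_surjective e hsurj))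

/-- A finitely generated extension. -/
theorem inj_fg (K : Type u) [Field K] : ∀ (n : ℕ) (k : Type u) [Field k] [Algebra k K] (S : Finset K),
    S.card = n → IntermediateField.adjoin k (S : Set K) = ⊤ → Inj (algebraMap k K) := by
  intro n
  induction n with
  | zero =>
    intro k _ _ S hS hgen
    rw [Finset.card_eq_zero] at hS
    subst hS
    refine inj_of_finite _ (RingHom.Finite.of_surjective _ fun y => ?_)
    rw [Finset.coe_empty, IntermediateField.adjoin_empty] at hgen
    exact IntermediateField.mem_bot.1 (hgen ▸ trivial)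
  | succ n ih =>
    intro k _ _ S hS hgen
    classical
    obtain ⟨a, T, haT, rfl, hT⟩ := Finset.card_eq_succ.1 hS
    have hF : IntermediateField.adjoin k⟮a⟯ (T : Set K) = ⊤ := by
      apply IntermediateField.restrictScalars_injective k
      rw [IntermediateField.adjoin_adjoin_left, IntermediateField.restrictScalars_top, ← hgen,
        Finset.coe_insert, Set.singleton_union]
    have h1 : IntermediateField.adjoin k {(⟨a, IntermediateField.mem_adjoin_simple_self k a⟩ : k⟮a⟯)} = ⊤ := by
      apply IntermediateField.map_injective k⟮a⟯.val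
      rw [IntermediateField.adjoin_map, Set.image_singleton, ← AlgHom.fieldRange_eq_map, IntermediateField.fieldRange_val]
      rfl
    have h := (inj_simple k k⟮a⟯ _ h1).comp (ih k⟮a⟯ T hT hF)
    rwa [← IsScalarTower.algebraMap_eq] at h

section sub

variable {k K : Type u} [Field k] [Field K] [Algebra k K]

/-- The inclusion of intermediate fields. -/
def incl {E F : IntermediateField k K} (h : E ≤ F) : E →+* F := (IntermediateField.inclusion h).toRingHom

theorem incl_id (E : IntermediateField k K) : incl (le_refl E) = RingHom.id _ :=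
  RingHom.ext fun _ => Subtype.ext rfl

theorem incl_comp {E F G : IntermediateField k K} (h : E ≤ F) (h' : F ≤ G) :
    (incl h').comp (incl h) = incl (h.trans h') :=
  RingHom.ext fun _ => Subtype.ext rfl

theorem val_incl {E F : IntermediateField k K} (h : E ≤ F) : F.val.toRingHom.comp (incl h) = E.val.toRingHom :=
  RingHom.ext fun _ => rfl

theorem incl_algebraMap {E F : IntermediateField k K} (h : E ≤ F) : (incl h).comp (algebraMap k E) = algebraMap k F :=
  RingHom.ext fun x => (IntermediateField.inclusion h).commutes x

theorem val_algebraMap (E : IntermediateField k K) : E.val.toRingHom.comp (algebraMap k E) = algebraMap k K :=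
  RingHom.ext fun x => E.val.commutes x

theorem inj_of_adjoin_finset (E : IntermediateField k K) (S : Finset K) (hS : IntermediateField.adjoin k (S : Set K) = E) :
    Inj (algebraMap k E) := by
  classical
  let T : Finset E := S.attach.image fun x => ⟨x.1, hS ▸ IntermediateField.subset_adjoin k _ x.2⟩
  have hT : IntermediateField.adjoin k (T : Set E) = ⊤ := by
    apply IntermediateField.map_injective E.val
    rw [IntermediateField.adjoin_map, ← AlgHom.fieldRange_eq_map, IntermediateField.fieldRange_val]
    refine Eq.trans ?_ hS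
    refine congrArg (IntermediateField.adjoin k) (Set.ext fun x => ?_)
    simp only [T, Finset.coe_image, Set.mem_image, Finset.mem_coe, Finset.mem_attach, true_and, Subtype.exists]
    refine ⟨?_, fun hx => ⟨x, hS ▸ IntermediateField.subset_adjoin k _ hx, ⟨x, hx, rfl⟩, rfl⟩⟩
    rintro ⟨_, _, ⟨y, hy, e⟩, rfl⟩
    rw [← e]
    exact hy
  exact inj_fg E T.card k T rfl hT

end sub

variable (k K : Type u) [Field k] [Field K] [Algebra k K]

/-- A finitely generated subfield. -/
def sub (S : Finset K) : IntermediateField k K := IntermediateField.adjoin k (S : Set K)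

theorem sub_mono {S T : Finset K} (h : S ≤ T) : sub k K S ≤ sub k K T :=
  IntermediateField.adjoin.mono k _ _ (Finset.coe_subset.2 h)

theorem mem_sub_singleton (x : K) : x ∈ sub k K {x} :=
  IntermediateField.subset_adjoin k _ (Finset.mem_coe.2 (Finset.mem_singleton_self x))

/-- The finitely generated subfields. -/
def subSys : Finset K ⥤ CommRingCat.{u} where
  obj S := CommRingCat.of ↥(sub k K S)
  map f := CommRingCat.ofHom (incl (sub_mono k K f.le))
  map_id S := (congrArg CommRingCat.ofHom (incl_id (sub k K S))).trans CommRingCat.ofHom_id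
  map_comp f g := (congrArg CommRingCat.ofHom (incl_comp (sub_mono k K f.le) (sub_mono k K g.le)).symm).trans
    (CommRingCat.ofHom_comp _ _)

theorem exists_smul_ratEquivZero (X : Scheme.{u}) (a : X ⟶ Spec (CommRingCat.of k)) [LocallyOfFiniteType a]
    [QuasiCompact a] (δ : X → ℤ) (hδ : Cyc.DeltaCompat a δ (fun _ => 0))
    (δK : ↥(pullback a (Spec.map (CommRingCat.ofHom (algebraMap k K)))) → ℤ)
    (hδK : Cyc.DeltaCompat (pullback.snd a (Spec.map (CommRingCat.ofHom (algebraMap k K)))) δK (fun _ => 0))
    (n : ℤ) (α : AlgebraicCycle X ℤ) (hα : α ∈ Cyc.Zk X δ n)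
    (γ : AlgebraicCycle (pullback a (Spec.map (CommRingCat.ofHom (algebraMap k K)))) ℤ)
    (hγ : ⇑γ = Cyc.pullFun (pullback.fst _ _) δK δ 0 ⇑α) (m : ℤ) (hm : m ≠ 0)
    (h0 : Cyc.RatEquivZero δK n (m • γ)) : ∃ m' : ℤ, m' ≠ 0 ∧ Cyc.RatEquivZero δ n (m' • α) := by
  classical
  have hmα : m • α ∈ Cyc.Zk X δ n := fun z hz => by show m • α z = 0; rw [hα z hz, smul_zero]
  obtain ⟨S, δS, hδS, αS, hαS, hS⟩ := descend (algebraMap k K) (subSys k K)
    (fun S => CommRingCat.ofHom (sub k K S).val.toRingHom)
    (fun f => CommRingCat.hom_ext (val_incl (sub_mono k K f.le)))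
    (fun S => CommRingCat.ofHom (algebraMap k ↥(sub k K S)))
    (fun f => CommRingCat.hom_ext (incl_algebraMap (sub_mono k K f.le)))
    (fun S => CommRingCat.hom_ext (val_algebraMap (sub k K S)))
    (fun S => Subtype.val_injective) (fun x => ⟨{x}, ⟨x, mem_sub_singleton k K x⟩, rfl⟩)
    (fun S => fun _ => 0) (fun S => Cyc26Pn.isSetup_point ↥(sub k K S))
    (fun {S T} f => Cyc26.flat_specMap_field (k := ↥(sub k K S)) (K := ↥(sub k K T)) _)
    (fun S => Cyc26.flat_specMap_field (k := ↥(sub k K S)) (K := K) _)
    (fun S => Cyc26.flat_specMap_field (k := k) (K := ↥(sub k K S)) _)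
    (fun f s _ => rfl) (fun S s => rfl) (fun S s _ => rfl)
    a hδ hδK (m • α) hmα (m • γ) (by rw [pullFun_zsmul, ← hγ]; rfl) h0
  obtain ⟨m', hm', h'⟩ := inj_of_adjoin_finset (sub k K S) S rfl X a δ hδ _ _ _
    (IsPullback.of_hasPullback a (Spec.map (CommRingCat.ofHom (algebraMap k ↥(sub k K S))))) δS hδS n (m • α) hmα αS hαS hS
  exact ⟨m' * m, mul_ne_zero hm' hm, by rwa [mul_smul]⟩

end Groth.Agent.Cyc26C
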