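import Groth.Agent.Lib.Cyc26C.Basic
import Groth.Agent.Lib.LimH13.SubAlgLimit
import Groth.Agent.S6497

/-! # Descent of rational triviality along a base change to a directed union of rings -/

set_option autoImplicit false
universe u
set_option backward.isDefEq.respectTransparency false
set_option backward.isDefEq.respectTransparency.types false

open CategoryTheory Limits AlgebraicGeometry Opposite

namespace Groth.Agent.Cyc26C

section base

variable {I : Type u} [Preorder I] [IsDirected I (· ≤ ·)] [Nonempty I] {S : Scheme.{u}}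
  {G : Iᵒᵖ ⥤ Scheme.{u}} {cS : Cone G} (hS : IsLimit cS) (t : G ⟶ (Functor.const Iᵒᵖ).obj S)
  (T : cS.pt ⟶ S) (hT : ∀ i, cS.π.app i ≫ t.app i = T) {X : Scheme.{u}} (a : X ⟶ S)

omit [IsDirected I (· ≤ ·)] [Nonempty I] in
theorem tw {i j : Iᵒᵖ} (f : i ⟶ j) : G.map f ≫ t.app j = t.app i :=
  (t.naturality f).trans (Category.comp_id _)

/-- The base change of a system. -/
noncomputable def bcDiag : Iᵒᵖ ⥤ Scheme.{u} where
  obj i := pullback a (t.app i)
  map {i j} f := pullback.map _ _ _ _ (𝟙 X) (G.map f) (𝟙 S) (by simp)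
    (by rw [tw t f]; exact Category.comp_id _)
  map_id i := by apply pullback.hom_ext <;> simp
  map_comp f g := by apply pullback.hom_ext <;> simp

include hT in
/-- The base change of a cone. -/
noncomputable def bcCone : Cone (bcDiag t a) where
  pt := pullback a T
  π :=
    { app := fun i => pullback.map _ _ _ _ (𝟙 X) (cS.π.app i) (𝟙 S) (by simp)
        ((Category.comp_id _).trans (hT i).symm)
      naturality := fun i j f => by
        apply pullback.hom_ext <;> simp [bcDiag] }

include hS in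
/-- The base change of a limit is a limit. -/
noncomputable def isLimitBcCone : IsLimit (bcCone t T hT a) := by
  classical
  let i₀ : Iᵒᵖ := op (Classical.arbitrary I)
  have hfst : ∀ (s : Cone (bcDiag t a)) (i j : Iᵒᵖ),
      s.π.app i ≫ pullback.fst a (t.app i) = s.π.app j ≫ pullback.fst a (t.app j) := by
    intro s i j
    obtain ⟨l, h1, h2⟩ := exists_ge_ge i.unop j.unop
    rw [← s.w ((homOfLE h1).op : op l ⟶ i), ← s.w ((homOfLE h2).op : op l ⟶ j)]
    simp [bcDiag]
  let snd : (s : Cone (bcDiag t a)) → Cone G := fun s =>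
    { pt := s.pt
      π :=
        { app := fun i => s.π.app i ≫ pullback.snd a (t.app i)
          naturality := fun i j f => by
            rw [← s.w f]
            simp [bcDiag] } }
  exact
    { lift := fun s => pullback.lift (s.π.app i₀ ≫ pullback.fst a (t.app i₀)) (hS.lift (snd s)) (by
        rw [← hT i₀, ← Category.assoc (hS.lift (snd s)), hS.fac]
        exact (Category.assoc _ _ _).trans ((congrArg _ pullback.condition).trans (Category.assoc _ _ _).symm))
      fac := fun s i => by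
        apply pullback.hom_ext
        · simp [bcCone, hfst s i₀ i]
        · simp [bcCone, hS.fac, snd]
      uniq := fun s m hm => by
        apply pullback.hom_ext
        · rw [pullback.lift_fst, ← hm i₀]
          simp [bcCone]
        · rw [pullback.lift_snd]
          refine hS.uniq (snd s) _ fun i => ?_
          show _ = s.π.app i ≫ pullback.snd a (t.app i)
          rw [← hm i]
          simp [bcCone] }

omit [IsDirected I (· ≤ ·)] [Nonempty I] in
theorem bcMap_sq {i j : Iᵒᵖ} (f : i ⟶ j) :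
    IsPullback ((bcDiag t a).map f) (pullback.snd a (t.app i)) (pullback.snd a (t.app j)) (G.map f) := by
  refine IsPullback.of_right ?_ (pullback.lift_snd _ _ _) (IsPullback.of_hasPullback a (t.app j))
  rw [show (bcDiag t a).map f ≫ pullback.fst a (t.app j) = pullback.fst a (t.app i) from
    (pullback.lift_fst _ _ _).trans (Category.comp_id _), tw t f]
  exact IsPullback.of_hasPullback _ _

omit [IsDirected I (· ≤ ·)] [Nonempty I] in
include hT in
theorem bcπ_sq (i : Iᵒᵖ) :
    IsPullback ((bcCone t T hT a).π.app i) (pullback.snd a T) (pullback.snd a (t.app i)) (cS.π.app i) := by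
  refine IsPullback.of_right ?_ (pullback.lift_snd _ _ _) (IsPullback.of_hasPullback a (t.app i))
  rw [show (bcCone t T hT a).π.app i ≫ pullback.fst a (t.app i) = pullback.fst a T from
    (pullback.lift_fst _ _ _).trans (Category.comp_id _), hT i]
  exact IsPullback.of_hasPullback _ _

end base

variable {k K : Type u} [Field k] [Field K] (φK : k →+* K) {J : Type u} [Preorder J] [IsDirected J (· ≤ ·)]
  [Nonempty J] (R : J ⥤ CommRingCat.{u}) (ι : (j : J) → R.obj j ⟶ CommRingCat.of K)
  (hι : ∀ {i j : J} (f : i ⟶ j), R.map f ≫ ι j = ι i) (ψ : (j : J) → CommRingCat.of k ⟶ R.obj j)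
  (hψ : ∀ {i j : J} (f : i ⟶ j), ψ i ≫ R.map f = ψ j) (hψK : ∀ j, ψ j ≫ ι j = CommRingCat.ofHom φK)

include hι hψ hψK in
/-- Descent of rational triviality to a stage. -/
theorem descend (hinj : ∀ j, Function.Injective (ι j).hom) (hsurj : ∀ x : K, ∃ j y, (ι j).hom y = x)
    (dS : (j : J) → ↥(Spec (R.obj j)) → ℤ) (hdS : ∀ j, Cyc.IsSetup (Spec (R.obj j)) (dS j))
    (hflat : ∀ {i j : J} (f : i ⟶ j), Flat (Spec.map (R.map f)))
    (hflat' : ∀ j, Flat (Spec.map (ι j))) (hflatψ : ∀ j, Flat (Spec.map (ψ j)))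
    (hsh : ∀ {i j : J} (f : i ⟶ j) (s : Spec (R.obj j)),
      (∀ y, Spec.map (R.map f) y = Spec.map (R.map f) s → y ⤳ s → y = s) → dS j s = dS i (Spec.map (R.map f) s))
    (hsh' : ∀ (j : J) (s : Spec (CommRingCat.of K)), dS j (Spec.map (ι j) s) = 0)
    (hgen : ∀ (j : J) (s : Spec (R.obj j)),
      (∀ y, Spec.map (ψ j) y = Spec.map (ψ j) s → y ⤳ s → y = s) → dS j s = 0)
    {X : Scheme.{u}} (a : X ⟶ Spec (CommRingCat.of k)) [LocallyOfFiniteType a] [QuasiCompact a]
    {δ : X → ℤ} (hδ : Cyc.DeltaCompat a δ (fun _ => 0))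
    {δ' : ↥(pullback a (Spec.map (CommRingCat.ofHom φK))) → ℤ}
    (hδ' : Cyc.DeltaCompat (pullback.snd a (Spec.map (CommRingCat.ofHom φK))) δ' (fun _ => 0))
    {n : ℤ} (α : AlgebraicCycle X ℤ) (hα : α ∈ Cyc.Zk X δ n)
    (γ : AlgebraicCycle (pullback a (Spec.map (CommRingCat.ofHom φK))) ℤ)
    (hγ : ⇑γ = Cyc.pullFun (pullback.fst _ _) δ' δ 0 ⇑α) (h0 : Cyc.RatEquivZero δ' n γ) :
    ∃ (j : J) (δj : ↥(pullback a (Spec.map (ψ j))) → ℤ)
      (_ : Cyc.DeltaCompat (pullback.snd a (Spec.map (ψ j))) δj (dS j))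
      (αj : AlgebraicCycle (pullback a (Spec.map (ψ j))) ℤ),
      ⇑αj = Cyc.pullFun (pullback.fst _ _) δj δ 0 ⇑α ∧ Cyc.RatEquivZero δj n αj := by
  classical
  let cR : Cocone R :=
    { pt := CommRingCat.of K
      ι :=
        { app := ι
          naturality := fun i j f => (hι f).trans (Category.comp_id _).symm } }
  have hS : IsLimit (Scheme.Spec.mapCone cR.op) :=
    isLimitOfPreserves Scheme.Spec (LimH13.SubAlg.isColimitOfInjective cR hinj hsurj).op
  let G : Jᵒᵖ ⥤ Scheme.{u} := R.op ⋙ Scheme.Spec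
  let cS : Cone G := Scheme.Spec.mapCone cR.op
  let t : G ⟶ (Functor.const Jᵒᵖ).obj (Spec (CommRingCat.of k)) :=
    { app := fun i => Spec.map (ψ i.unop)
      naturality := fun i j f => by
        show Spec.map (R.map f.unop) ≫ Spec.map (ψ j.unop) = Spec.map (ψ i.unop) ≫ 𝟙 _
        rw [← Spec.map_comp, hψ, Category.comp_id] }
  let T : cS.pt ⟶ Spec (CommRingCat.of k) := Spec.map (CommRingCat.ofHom φK)
  have hT : ∀ i, cS.π.app i ≫ t.app i = T := fun i => by
    show Spec.map (ι i.unop) ≫ Spec.map (ψ i.unop) = _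
    rw [← Spec.map_comp, hψK]
  let D := bcDiag t a
  let c : Cone D := bcCone t T hT a
  have hc : IsLimit c := isLimitBcCone hS t T hT a
  choose δs hδs using fun i : Jᵒᵖ => Bivar12.exists_deltaCompat (pullback.snd a (t.app i)) (dS i.unop)
  have hset : ∀ i, Cyc.IsSetup (D.obj i) (δs i) := fun i =>
    Cyc26Split.isSetup_of_lft (pullback.snd a (t.app i)) (hdS i.unop) (hδs i)
  have hset' : Cyc.IsSetup c.pt δ' := Cyc26Split.isSetup_of_lft _ (Cyc26Pn.isSetup_point K) hδ'
  haveI hfG : ∀ (i j : Jᵒᵖ) (f : i ⟶ j), Flat (G.map f) := fun i j f => hflat f.unop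
  haveI hfS : ∀ i, Flat (cS.π.app i) := fun i => hflat' i.unop
  have hflatD : ∀ (i j : Jᵒᵖ) (f : i ⟶ j), Flat (D.map f) := fun i j f =>
    MorphismProperty.of_isPullback (bcMap_sq t a f).flip (hfG i j f)
  have hflatC : ∀ i, Flat (c.π.app i) := fun i =>
    MorphismProperty.of_isPullback (bcπ_sq t T hT a i).flip (hfS i)
  have haff : ∀ (i j : Jᵒᵖ) (f : i ⟶ j), IsAffineHom (D.map f) := fun i j f =>
    MorphismProperty.of_isPullback (bcMap_sq t a f).flip (show IsAffineHom (Spec.map (R.map f.unop)) from inferInstance)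
  have hqc : ∀ i, CompactSpace ↥(D.obj i) := fun i => by
    haveI : CompactSpace ↥(G.obj i) := inferInstanceAs (CompactSpace ↥(Spec (R.obj i.unop)))
    exact QuasiCompact.compactSpace_of_compactSpace (pullback.snd a (t.app i))
  have hshift : ∀ (i j : Jᵒᵖ) (f : i ⟶ j) (x : ↥(D.obj i)),
      (∀ y, D.map f y = D.map f x → y ⤳ x → y = x) → δs i x = δs j (D.map f x) := fun i j f x hx => by
    haveI := hfG i j f
    have h := delta_fibreMax (bcMap_sq t a f) (c := 0) (fun s hs => (hsh f.unop s hs).trans (add_zero _).symm)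
      (hδs j) (hδs i) x hx
    rwa [add_zero] at h
  have hshift' : ∀ (i : Jᵒᵖ) (x : ↥c.pt),
      (∀ y, c.π.app i y = c.π.app i x → y ⤳ x → y = x) → δ' x = δs i (c.π.app i x) := fun i x hx => by
    haveI := hfS i
    have h := delta_fibreMax (bcπ_sq t T hT a i) (c := 0)
      (fun s _ => by show (0 : ℤ) = _; rw [add_zero]; exact (hsh' i.unop s).symm) (hδs i) hδ' x hx
    rwa [add_zero] at h
  let i₀ : Jᵒᵖ := op (Classical.arbitrary J)
  have hX := Cyc26Split.isSetup_of_lft a (Cyc26Pn.isSetup_point k) hδ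
  haveI := hX.1
  haveI : IsLocallyNoetherian (pullback a (t.app i₀)) := (hset i₀).1
  haveI := (hset i₀).1
  haveI : IsLocallyNoetherian c.pt := hset'.1
  haveI : ∀ i, Flat (pullback.fst a (t.app i)) := fun i =>
    MorphismProperty.of_isPullback (IsPullback.of_hasPullback a (t.app i)).flip (hflatψ i.unop)
  have hgens : ∀ (i : Jᵒᵖ) (x : ↥(D.obj i)), (∀ w, pullback.fst a (t.app i) w = pullback.fst a (t.app i) x → w ⤳ x → w = x) →
      δs i x = δ (pullback.fst a (t.app i) x) + 0 := fun i x hx => by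
    haveI : Flat (t.app i) := hflatψ i.unop
    exact delta_fibreMax (IsPullback.of_hasPullback a (t.app i)) (fun s hs => (hgen i.unop s hs).trans (add_zero _).symm)
      hδ (hδs i) x hx
  obtain ⟨α₀, hα₀⟩ := Cyc26.exists_cycle_pullFun (pullback.fst a (t.app i₀)) (hset i₀).2.2 (hgens i₀) α
  have hα₀Z : α₀ ∈ Cyc.Zk (D.obj i₀) (δs i₀) n := fun z hz => by
    refine (congrFun hα₀ z).trans ?_
    simp only [Cyc.pullFun]
    split_ifs with h
    · rw [hα _ (fun e => hz (by rw [h, e, add_zero])), zero_mul]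
    · rfl
  have hcomp : c.π.app i₀ ≫ pullback.fst a (t.app i₀) = pullback.fst a T :=
    (pullback.lift_fst _ _ _).trans (Category.comp_id _)
  have hγ' : ⇑γ = Cyc.pullFun (c.π.app i₀) δ' (δs i₀) 0 ⇑α₀ := by
    haveI := hflatC i₀
    haveI : IsLocallyNoetherian (((Functor.const Jᵒᵖ).obj c.pt).obj i₀) := hset'.1
    have h2 := (Cyc26.pullFun_comp_shift (c.π.app i₀) (pullback.fst a (t.app i₀)) hset'.2.2 (hset i₀).2.2
      (hgens i₀) (fun x hx => (hshift' i₀ x hx).trans (add_zero _).symm) ⇑α).2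
    rw [hcomp, add_zero] at h2
    exact hγ.trans (h2.trans (congrArg (Cyc.pullFun (c.π.app i₀) δ' (δs i₀) 0) hα₀.symm))
  obtain ⟨j, f, αj, hαj, hj⟩ := S6497.result J D c hc haff hflatD hqc δs δ' hset hset' hshift hflatC hshift' n i₀ α₀
    hα₀Z γ hγ' h0
  haveI := hflatD j i₀ f
  haveI := (hset j).1
  refine ⟨j.unop, δs j, hδs j, αj, ?_, hj⟩
  have h2 := (Cyc26.pullFun_comp_shift (D.map f) (pullback.fst a (t.app i₀)) (hset j).2.2 (hset i₀).2.2
    (hgens i₀) (fun x hx => (hshift j i₀ f x hx).trans (add_zero _).symm) ⇑α).2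
  rw [show D.map f ≫ pullback.fst a (t.app i₀) = pullback.fst a (t.app j) from
    (pullback.lift_fst _ _ _).trans (Category.comp_id _), add_zero] at h2
  exact hαj.trans ((congrArg (Cyc.pullFun (D.map f) (δs j) (δs i₀) 0) hα₀).trans h2.symm)

end Groth.Agent.Cyc26C
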