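import Groth.Agent.Lib.Bivar12.AmpleSec
import Groth.Agent.Lib.Bivar12.ZeroScheme
import Groth.Agent.Lib.QAGen11.Basic
import Groth.Agent.Lib.RegImm26.Noeth

/-! # The zero scheme of a function on an affine scheme -/

set_option autoImplicit false
universe u
set_option backward.isDefEq.respectTransparency false
set_option backward.isDefEq.respectTransparency.types false

open CategoryTheory Limits AlgebraicGeometry Opposite

noncomputable section

namespace Groth.Agent.Cyc26C

variable (R : CommRingCat.{u}) (r : R)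

/-- An element as a section of the structure module. -/
def fsec : (Coh.structureModule (Spec R)).presheaf.obj (op ⊤) :=
  show Γ(Spec R, ⊤) from (Scheme.ΓSpecIso R).inv r

/-- The closed subscheme cut out by an element. -/
def zι : Spec (CommRingCat.of (R ⧸ Ideal.span {r})) ⟶ Spec R :=
  Spec.map (CommRingCat.ofHom (Ideal.Quotient.mk (Ideal.span {r})))

instance : IsClosedImmersion (zι R r) :=
  IsClosedImmersion.spec_of_surjective _ Ideal.Quotient.mk_surjective

theorem germ_fsec (x : Spec R) : (Coh.structureModule (Spec R)).presheaf.germ ⊤ x trivial (fsec R r) =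
    (Spec R).presheaf.germ ⊤ x trivial ((Scheme.ΓSpecIso R).inv r) •
      Amp.gm (Coh.structureModule (Spec R)) x (U := ⊤) trivial
        (show Γ(Coh.structureModule (Spec R), ⊤) from (1 : Γ(Spec R, ⊤))) := by
  have e : fsec R r = ((Scheme.ΓSpecIso R).inv r : Γ(Spec R, ⊤)) •
      (show Γ(Coh.structureModule (Spec R), ⊤) from (1 : Γ(Spec R, ⊤))) :=
    (mul_one ((Scheme.ΓSpecIso R).inv r : Γ(Spec R, ⊤))).symm
  rw [← Amp.gm_smul, ← e]

theorem isZeroSchemeOf_zι : Cyc.IsZeroSchemeOf (zι R r) (Coh.structureModule (Spec R)) (fsec R r) := by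
  have hL := QAGen11.isInvertible_unit (Spec R)
  refine ⟨?_, fun d => ⟨_, _, Cyc26.span_eq_top_of_gen (Amp.gen_one (X := Spec R) (zι R r d) (U := ⊤) trivial), germ_fsec R r _, ?_⟩⟩
  · ext x
    have hr : x ∈ Set.range (zι R r) ↔ r ∈ x.asIdeal := by
      show x ∈ Set.range (PrimeSpectrum.comap (Ideal.Quotient.mk (Ideal.span {r}))) ↔ _
      rw [range_comap_of_surjective _ _ Ideal.Quotient.mk_surjective, Ideal.mk_ker, PrimeSpectrum.mem_zeroLocus]
      exact ⟨fun h => h (Ideal.mem_span_singleton_self r), fun h => (Ideal.span_singleton_le_iff_mem _).2 h⟩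
    have hu : IsUnit ((Spec R).presheaf.germ ⊤ x trivial ((Scheme.ΓSpecIso R).inv r)) ↔ r ∉ x.asIdeal := by
      rw [← Scheme.mem_basicOpen_top, basicOpen_eq_of_affine]
      exact Iff.rfl
    have h0 := Bivar12.fmk_eq_zero_iff hL ((Coh.structureModule (Spec R)).presheaf.germ ⊤ x trivial (fsec R r))
    show _ ↔ Cyc26.fmk _ x _ = 0
    rw [h0, hr, germ_fsec, (Amp.gen_one (X := Spec R) x (U := ⊤) trivial).ne_zero_smul, hu]
    exact not_not.symm
  · suffices h : RingHom.ker ((zι R r).app ⊤).hom = Ideal.span {(Scheme.ΓSpecIso R).inv r} by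
      rw [RegImm26.ker_stalkMap_eq (zι R r) d (isAffineOpen_top _) trivial, h, Ideal.map_span, Set.image_singleton]
    ext x
    have e : (zι R r).appTop = (Scheme.ΓSpecIso R).hom ≫ CommRingCat.ofHom (Ideal.Quotient.mk (Ideal.span {r})) ≫
        (Scheme.ΓSpecIso _).inv := by
      rw [← Scheme.ΓSpecIso_naturality_assoc, Iso.hom_inv_id, Category.comp_id]
      rfl
    rw [RingHom.mem_ker]
    show (zι R r).appTop x = 0 ↔ _
    rw [e, CommRingCat.comp_apply, CommRingCat.comp_apply, Ideal.mem_span_singleton]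
    refine ⟨fun h => ?_, fun h => ?_⟩
    · have h1 := congrArg (Scheme.ΓSpecIso (CommRingCat.of (R ⧸ Ideal.span {r}))).hom h
      rw [Iso.inv_hom_id_apply, map_zero] at h1
      obtain ⟨c, hc⟩ := Ideal.mem_span_singleton.1 (Ideal.Quotient.eq_zero_iff_mem.1 h1)
      refine ⟨(Scheme.ΓSpecIso R).inv c, ?_⟩
      rw [← map_mul, ← hc, Iso.hom_inv_id_apply]
    · obtain ⟨c, rfl⟩ := h
      rw [map_mul, Iso.inv_hom_id_apply]
      show (Scheme.ΓSpecIso (CommRingCat.of (R ⧸ Ideal.span {r}))).inv (Ideal.Quotient.mk (Ideal.span {r}) (r * _)) = 0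
      rw [Ideal.Quotient.eq_zero_iff_mem.2 (Ideal.mul_mem_right _ _ (Ideal.mem_span_singleton_self r)), map_zero]

/-- The pullback of a nonzero function along a flat map is a nonzerodivisor on stalks. -/
theorem regular_pullSec {P : Scheme.{u}} (q : P ⟶ Spec R) [Flat q] [IsDomain R] (hr : r ≠ 0) (x : P) :
    Function.Injective fun c : P.presheaf.stalk x =>
      c • (((Scheme.Modules.pullback q).obj (Coh.structureModule (Spec R))).presheaf.germ ⊤ x trivial)
        (M2.pullSec q (Coh.structureModule (Spec R)) (fsec R r)) := by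
  intro c c' h
  have hL := QAGen11.isInvertible_unit (Spec R)
  have hg : (((Scheme.Modules.pullback q).obj (Coh.structureModule (Spec R))).presheaf.germ ⊤ x trivial)
        (M2.pullSec q (Coh.structureModule (Spec R)) (fsec R r)) =
      q.stalkMap x ((Spec R).presheaf.germ ⊤ (q x) trivial ((Scheme.ΓSpecIso R).inv r)) •
        Cyc26.pst q (Coh.structureModule (Spec R)) x (Amp.gm (Coh.structureModule (Spec R)) (q x) (U := ⊤) trivial
          (show Γ(Coh.structureModule (Spec R), ⊤) from (1 : Γ(Spec R, ⊤)))) := by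
    rw [← Cyc26.pst_smul, ← germ_fsec, Cyc26.pst_germ]
    rfl
  simp only [hg, ← mul_smul] at h
  have h1 := (Cyc26.gen_pst q hL (Amp.gen_one (X := Spec R) (q x) (U := ⊤) trivial)).1 h
  letI := (q.stalkMap x).hom.toAlgebra
  haveI : Module.Flat ((Spec R).presheaf.stalk (q x)) (P.presheaf.stalk x) :=
    (Flat.iff_flat_stalkMap q).1 inferInstance x
  have hne : (Spec R).presheaf.germ ⊤ (q x) trivial ((Scheme.ΓSpecIso R).inv r) ≠ 0 := by
    intro e
    apply hr
    have h2 : (Scheme.ΓSpecIso R).inv r = 0 := germ_injective_of_isIntegral (Spec R) (U := ⊤) (q x) trivial (e.trans (map_zero _).symm)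
    rw [← Iso.inv_hom_id_apply (Scheme.ΓSpecIso R) r, h2, map_zero]
  have hreg : IsSMulRegular ((Spec R).presheaf.stalk (q x)) ((Spec R).presheaf.germ ⊤ (q x) trivial ((Scheme.ΓSpecIso R).inv r)) :=
    fun a b hab => mul_left_cancel₀ hne hab
  have hreg' := IsSMulRegular.of_flat (S := P.presheaf.stalk x) hreg
  exact hreg' (show algebraMap _ (P.presheaf.stalk x) _ * c = algebraMap _ (P.presheaf.stalk x) _ * c' by
    rw [mul_comm _ c, mul_comm _ c']; exact h1)

end Groth.Agent.Cyc26C
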