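import Groth.Agent.Lib.Cyc26C.LimitStep
import Groth.Agent.Lib.Cyc26C.Zero
import Groth.Agent.Lib.Cyc26.C1Apps
import Groth.Agent.Lib.Cyc26.GysRel
import Groth.Agent.Lib.Twist.Pullback
import Mathlib.RingTheory.AdjoinRoot

/-! # A purely transcendental extension of degree one -/

set_option autoImplicit false
universe u
set_option backward.isDefEq.respectTransparency false
set_option backward.isDefEq.respectTransparency.types false

open CategoryTheory Limits AlgebraicGeometry Opposite Polynomial

noncomputable section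

namespace Groth.Agent.Cyc26C

variable (k : Type u) [Field k]

/-- The structure map of the affine line. -/
def lineStr : Spec (CommRingCat.of k[X]) ⟶ Spec (CommRingCat.of k) := Spec.map (CommRingCat.ofHom C)

instance : LocallyOfFiniteType (lineStr k) :=
  (HasRingHomProperty.Spec_iff (P := @LocallyOfFiniteType)).2
    (show RingHom.FiniteType (algebraMap k k[X]) from RingHom.finiteType_algebraMap.2 inferInstance)

theorem finite_quot_C {π : k[X]} (hπ : π ≠ 0) : ((Ideal.Quotient.mk (Ideal.span {π})).comp C).Finite := by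
  have h : (algebraMap k (AdjoinRoot π)).Finite := RingHom.finite_algebraMap.2 (AdjoinRoot.powerBasis hπ).finite
  exact h

/-- A dimension function on the affine line. -/
theorem exists_lineDim : ∃ d : ↥(Spec (CommRingCat.of k[X])) → ℤ, Cyc.IsSetup (Spec (CommRingCat.of k[X])) d ∧
    Cyc.DeltaCompat (lineStr k) d (fun _ => 0) ∧
    (∀ s : Spec (CommRingCat.of k[X]), s.asIdeal = ⊥ → d s = 1) ∧
    ∀ (π : k[X]) (s : Spec (CommRingCat.of k[X])), π ≠ 0 → π ∈ s.asIdeal → d s = 0 := by
  obtain ⟨d, hd⟩ := Bivar12.exists_deltaCompat (lineStr k) (fun _ => 0)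
  have hs := Cyc26Split.isSetup_of_lft (lineStr k) (Cyc26Pn.isSetup_point k) hd
  have hcl : ∀ (π : k[X]) (s : Spec (CommRingCat.of k[X])), π ≠ 0 → π ∈ s.asIdeal → d s = 0 := by
    intro π s hπ hs'
    obtain ⟨z, rfl⟩ : s ∈ Set.range (zι (CommRingCat.of k[X]) π) := by
      show s ∈ Set.range (PrimeSpectrum.comap (Ideal.Quotient.mk (Ideal.span {π})))
      rw [range_comap_of_surjective _ _ Ideal.Quotient.mk_surjective, Ideal.mk_ker, PrimeSpectrum.mem_zeroLocus]
      exact (Ideal.span_singleton_le_iff_mem _).2 hs'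
    haveI : IsFinite (zι (CommRingCat.of k[X]) π ≫ lineStr k) := by
      rw [zι, lineStr, ← Spec.map_comp, IsFinite.SpecMap_iff]
      exact finite_quot_C k hπ
    exact Cyc26.delta_eq_of_finite _
      (Cyc26A.deltaCompat_comp _ _ (Bivar12.deltaCompat_surjStalks (zι (CommRingCat.of k[X]) π) d) hd) z
  refine ⟨d, hs, hd, fun s hs0 => ?_, hcl⟩
  let z : Spec (CommRingCat.of k[X]) := ⟨Ideal.span {X}, (Ideal.span_singleton_prime X_ne_zero).2 prime_X⟩
  have hsz : s ⤳ z := (PrimeSpectrum.le_iff_specializes s z).1 (show s.asIdeal ≤ z.asIdeal by rw [hs0]; exact bot_le)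
  have hne : s ≠ z := fun e => by
    have h : (X : k[X]) ∈ s.asIdeal := e ▸ Ideal.mem_span_singleton_self X
    rw [hs0] at h
    exact X_ne_zero h
  have h1 := (hs.2.2 s z hsz hne).2 fun w _ hw => by
    by_cases hw0 : w.asIdeal = ⊥
    · exact Or.inl (PrimeSpectrum.ext (hw0.trans hs0.symm))
    · exact Or.inr (PrimeSpectrum.ext ((IsPrime.to_maximal_ideal hw0 (hpi := w.2)).eq_of_le z.2.ne_top
        ((PrimeSpectrum.le_iff_specializes w z).2 hw)))
  rw [hcl X z X_ne_zero (Ideal.mem_span_singleton_self X)] at h1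
  exact h1

/-- Flatness cancels along open immersions. -/
theorem flat_of_comp_mono {A B D : Scheme.{u}} (f : A ⟶ B) (g : B ⟶ D) [Mono g] [Flat (f ≫ g)] : Flat f := by
  have h : IsPullback (𝟙 A) f (f ≫ g) g :=
    ⟨⟨by simp⟩, ⟨PullbackCone.IsLimit.mk _ (fun s => s.fst) (fun s => Category.comp_id _)
      (fun s => (cancel_mono g).1 (by rw [Category.assoc]; exact s.condition))
      (fun s m hm _ => by simpa using hm)⟩⟩
  exact MorphismProperty.of_isPullback h ‹Flat (f ≫ g)›

/-- A nonzero polynomial does not contain every irreducible one. -/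
theorem exists_irreducible_not_dvd {f : k[X]} (hf : f ≠ 0) :
    ∃ π : k[X], Irreducible π ∧ ¬ π ∣ f := by
  have h1 : (X * f + 1).natDegree ≠ 0 := by
    rw [← C_1, natDegree_add_C, natDegree_X_mul hf]
    exact Nat.succ_ne_zero _
  obtain ⟨π, hπ, hd⟩ := WfDvdMonoid.exists_irreducible_factor (a := X * f + 1)
    (fun hu => h1 (natDegree_eq_zero_of_isUnit hu)) (fun e => h1 (by rw [e, natDegree_zero]))
  refine ⟨π, hπ, fun hf' => hπ.not_isUnit (isUnit_of_dvd_one ?_)⟩
  have := dvd_sub hd (hf'.mul_left X)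
  rwa [add_sub_cancel_left] at this

/-- The index of the localisations. -/
abbrev Idx := Finset {f : k[X] // f ≠ 0}

/-- The denominator of a stage. -/
def den (S : Idx k) : k[X] := ∏ f ∈ S, f.1

theorem den_ne_zero (S : Idx k) : den k S ≠ 0 := Finset.prod_ne_zero_iff.2 fun f _ => f.2

theorem den_dvd {S T : Idx k} (h : S ≤ T) : den k S ∣ den k T := Finset.prod_dvd_prod_of_subset _ _ _ h

theorem isUnit_den {S T : Idx k} (h : S ≤ T) :
    IsUnit (algebraMap k[X] (Localization.Away (den k T)) (den k S)) :=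
  isUnit_of_dvd_unit (map_dvd (algebraMap k[X] (Localization.Away (den k T))) (den_dvd k h))
    (IsLocalization.Away.algebraMap_isUnit (den k T))

/-- The map of localisations. -/
def trans' {S T : Idx k} (h : S ≤ T) : Localization.Away (den k S) →+* Localization.Away (den k T) :=
  IsLocalization.Away.lift (den k S) (isUnit_den k h)

theorem trans'_comp {S T : Idx k} (h : S ≤ T) :
    (trans' k h).comp (algebraMap k[X] (Localization.Away (den k S))) = algebraMap k[X] _ :=
  IsLocalization.Away.lift_comp (den k S) (isUnit_den k h)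

theorem trans'_ext (S : Idx k) {T : Type u} [CommRing T] (f g : Localization.Away (den k S) →+* T)
    (h : f.comp (algebraMap k[X] (Localization.Away (den k S))) = g.comp (algebraMap k[X] _)) : f = g :=
  IsLocalization.ringHom_ext (Submonoid.powers (den k S)) h

/-- The system of localisations. -/
def sys : Idx k ⥤ CommRingCat.{u} where
  obj S := CommRingCat.of (Localization.Away (den k S))
  map {S T} h := CommRingCat.ofHom (trans' k h.le)
  map_id S := CommRingCat.hom_ext ((trans'_ext k S (trans' k le_rfl) (RingHom.id _)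
    ((trans'_comp k le_rfl).trans (RingHom.id_comp _).symm)))
  map_comp {S T U} h h' := CommRingCat.hom_ext (trans'_ext k S (trans' k (h ≫ h').le) ((trans' k h'.le).comp (trans' k h.le))
    (by rw [RingHom.comp_assoc, trans'_comp, trans'_comp, trans'_comp]))

/-- The open piece of the line. -/
def piece (f : k[X]) : Spec (CommRingCat.of (Localization.Away f)) ⟶ Spec (CommRingCat.of k[X]) :=
  Spec.map (CommRingCat.ofHom (algebraMap k[X] (Localization.Away f)))

instance (f : k[X]) : IsOpenImmersion (piece k f) :=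
  IsOpenImmersion.of_isLocalization f

/-- The structure map of a piece. -/
def pieceψ (f : k[X]) : CommRingCat.of k ⟶ CommRingCat.of (Localization.Away f) :=
  CommRingCat.ofHom ((algebraMap k[X] (Localization.Away f)).comp C)

theorem map_pieceψ (f : k[X]) : Spec.map (pieceψ k f) = piece k f ≫ lineStr k := by
  rw [piece, lineStr, ← Spec.map_comp]
  rfl

theorem flat_lineStr : Flat (lineStr k) := by
  rw [lineStr, Flat.SpecMap_iff]
  exact RingHom.flat_algebraMap_iff.2 (inferInstanceAs (Module.Flat k k[X]))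

theorem flat_pieceψ (f : k[X]) : Flat (Spec.map (pieceψ k f)) := by
  haveI := flat_lineStr k
  rw [map_pieceψ]; infer_instance

theorem loc_injective {f : k[X]} (hf : f ≠ 0) : Function.Injective (algebraMap k[X] (Localization.Away f)) :=
  IsLocalization.injective _ (powers_le_nonZeroDivisors_of_noZeroDivisors hf)

theorem isDomain_loc {f : k[X]} (hf : f ≠ 0) : IsDomain (Localization.Away f) :=
  IsLocalization.isDomain_of_le_nonZeroDivisors (Localization.Away f) (powers_le_nonZeroDivisors_of_noZeroDivisors hf)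

/-- The shifted dimension function of a piece. -/
def pieceDim (d : ↥(Spec (CommRingCat.of k[X])) → ℤ) (f : k[X]) : ↥(Spec (CommRingCat.of (Localization.Away f))) → ℤ :=
  fun s => d (piece k f s) + (-1)

variable {d : ↥(Spec (CommRingCat.of k[X])) → ℤ} (hd : Cyc.IsSetup (Spec (CommRingCat.of k[X])) d)
  (hdc : Cyc.DeltaCompat (lineStr k) d (fun _ => 0))
  (hd1 : ∀ s : Spec (CommRingCat.of k[X]), s.asIdeal = ⊥ → d s = 1)

include hd1 in
theorem pieceDim_bot {f : k[X]} (hf : f ≠ 0) (s : Spec (CommRingCat.of (Localization.Away f))) (hs : s.asIdeal = ⊥) :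
    pieceDim k d f s = 0 := by
  show d (piece k f s) + (-1) = 0
  rw [hd1 _ (show Ideal.comap (algebraMap k[X] (Localization.Away f)) s.asIdeal = ⊥ from by
    rw [hs]; exact Ideal.comap_bot_of_injective _ (loc_injective k hf))]
  rfl

include hd1 in
theorem pieceDim_max {f : k[X]} (hf : f ≠ 0) (s : Spec (CommRingCat.of (Localization.Away f)))
    (hs : ∀ y, Spec.map (pieceψ k f) y = Spec.map (pieceψ k f) s → y ⤳ s → y = s) : pieceDim k d f s = 0 := by
  haveI := isDomain_loc k hf
  let η : Spec (CommRingCat.of (Localization.Away f)) := ⟨⊥, Ideal.isPrime_bot⟩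
  have := hs η (Subsingleton.elim (α := PrimeSpectrum k) _ _) ((PrimeSpectrum.le_iff_specializes η s).1 bot_le)
  exact pieceDim_bot k hd1 hf s (by rw [← this])

include hd in
theorem isSetup_pieceDim (f : k[X]) : Cyc.IsSetup (Spec (CommRingCat.of (Localization.Away f))) (pieceDim k d f) :=
  isSetup_add (Cyc26Split.isSetup_of_lft (piece k f) hd (Bivar12.deltaCompat_surjStalks _ _)) (-1)

theorem isUnit_frac {f : k[X]} (hf : f ≠ 0) : IsUnit (algebraMap k[X] (FractionRing k[X]) f) :=
  ((map_ne_zero_iff _ (IsFractionRing.injective k[X] (FractionRing k[X]))).2 hf).isUnit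

/-- The map to the function field. -/
def toFrac (S : Idx k) : Localization.Away (den k S) →+* FractionRing k[X] :=
  IsLocalization.Away.lift (den k S) (isUnit_frac k (den_ne_zero k S))

theorem toFrac_comp (S : Idx k) :
    (toFrac k S).comp (algebraMap k[X] (Localization.Away (den k S))) = algebraMap k[X] _ :=
  IsLocalization.Away.lift_comp (den k S) (isUnit_frac k (den_ne_zero k S))

theorem toFrac_injective (S : Idx k) : Function.Injective (toFrac k S) :=
  (IsLocalization.lift_injective_iff (M := Submonoid.powers (den k S)) _).2 fun x y =>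
    ⟨fun h => congrArg _ (loc_injective k (den_ne_zero k S) h),
     fun h => congrArg _ (IsFractionRing.injective k[X] (FractionRing k[X]) h)⟩

theorem toFrac_trans {S T : Idx k} (f : S ⟶ T) :
    (sys k).map f ≫ CommRingCat.ofHom (toFrac k T) = CommRingCat.ofHom (toFrac k S) :=
  CommRingCat.hom_ext (trans'_ext k S ((toFrac k T).comp (trans' k f.le)) (toFrac k S) (by
    rw [RingHom.comp_assoc, trans'_comp, toFrac_comp, toFrac_comp]))

theorem pieceψ_trans {S T : Idx k} (f : S ⟶ T) :
    pieceψ k (den k S) ≫ (sys k).map f = pieceψ k (den k T) :=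
  CommRingCat.hom_ext (by
    show (trans' k f.le).comp ((algebraMap k[X] (Localization.Away (den k S))).comp C) = _
    rw [← RingHom.comp_assoc, trans'_comp]
    rfl)

theorem pieceψ_toFrac (S : Idx k) : pieceψ k (den k S) ≫ CommRingCat.ofHom (toFrac k S) =
    CommRingCat.ofHom ((algebraMap k[X] (FractionRing k[X])).comp C) :=
  CommRingCat.hom_ext (by
    show (toFrac k S).comp ((algebraMap k[X] (Localization.Away (den k S))).comp C) = _
    rw [← RingHom.comp_assoc, toFrac_comp]
    rfl)

theorem toFrac_apply (S : Idx k) (p : k[X]) :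
    toFrac k S (algebraMap k[X] (Localization.Away (den k S)) p) = algebraMap k[X] (FractionRing k[X]) p :=
  RingHom.congr_fun (toFrac_comp k S) p

theorem toFrac_surj (x : FractionRing k[X]) : ∃ (S : Idx k) (y : Localization.Away (den k S)), toFrac k S y = x := by
  obtain ⟨p, q, hq, rfl⟩ := IsFractionRing.div_surjective k[X] x
  have hq0 : q ≠ 0 := nonZeroDivisors.ne_zero hq
  let f₀ : {f : k[X] // f ≠ 0} := ⟨q, hq0⟩
  obtain ⟨S, hS⟩ : ∃ S : Idx k, den k S = q := by
    refine ⟨{f₀}, ?_⟩
    exact Finset.prod_singleton _ f₀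
  let m : Submonoid.powers (den k S) := ⟨den k S, Submonoid.mem_powers _⟩
  refine ⟨S, IsLocalization.mk' (Localization.Away (den k S)) p m, ?_⟩
  have h : toFrac k S (IsLocalization.mk' (Localization.Away (den k S)) p m) *
      algebraMap k[X] (FractionRing k[X]) (den k S) = algebraMap k[X] (FractionRing k[X]) p := by
    rw [← toFrac_apply k S (den k S), ← map_mul, ← toFrac_apply k S p]
    exact congrArg (toFrac k S) (IsLocalization.mk'_spec (Localization.Away (den k S)) p m)
  replace h := h
  rw [show algebraMap k[X] (FractionRing k[X]) (den k S) = algebraMap k[X] (FractionRing k[X]) q from congrArg _ hS] at h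
  exact (eq_div_iff ((map_ne_zero_iff _ (IsFractionRing.injective k[X] _)).2 hq0)).2 h

theorem piece_trans {S T : Idx k} (f : S ⟶ T) :
    Spec.map ((sys k).map f) ≫ piece k (den k S) = piece k (den k T) := by
  rw [piece, piece, ← Spec.map_comp]
  exact congrArg Spec.map (CommRingCat.hom_ext (trans'_comp k f.le))

theorem flat_sys {S T : Idx k} (f : S ⟶ T) : Flat (Spec.map ((sys k).map f)) := by
  haveI : Flat (Spec.map ((sys k).map f) ≫ piece k (den k S)) := by rw [piece_trans]; infer_instance
  exact flat_of_comp_mono _ (piece k (den k S))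

theorem flat_toFrac (S : Idx k) : Flat (Spec.map (CommRingCat.ofHom (toFrac k S))) := by
  have e : Spec.map (CommRingCat.ofHom (toFrac k S)) ≫ piece k (den k S) =
      Spec.map (CommRingCat.ofHom (algebraMap k[X] (FractionRing k[X]))) := by
    rw [piece, ← Spec.map_comp]
    exact congrArg Spec.map (CommRingCat.hom_ext (toFrac_comp k S))
  haveI : Flat (Spec.map (CommRingCat.ofHom (toFrac k S)) ≫ piece k (den k S)) := by
    rw [e, Flat.SpecMap_iff]
    exact RingHom.flat_algebraMap_iff.2 (IsLocalization.flat _ (nonZeroDivisors k[X]))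
  exact flat_of_comp_mono _ (piece k (den k S))

theorem pieceDim_trans {S T : Idx k} (f : S ⟶ T) (s : Spec ((sys k).obj T)) :
    pieceDim k d (den k T) s = pieceDim k d (den k S) (Spec.map ((sys k).map f) s) := by
  show d (piece k (den k T) s) + (-1) = d (piece k (den k S) (Spec.map ((sys k).map f) s)) + (-1)
  rw [← piece_trans k f]
  rfl

include hd1 in
theorem pieceDim_toFrac (S : Idx k) (s : Spec (CommRingCat.of (FractionRing k[X]))) :
    pieceDim k d (den k S) (Spec.map (CommRingCat.ofHom (toFrac k S)) s) = 0 :=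
  pieceDim_bot k hd1 (den_ne_zero k S) _ (by
    show Ideal.comap (toFrac k S) s.asIdeal = ⊥
    rw [(Ideal.eq_bot_or_top s.asIdeal).resolve_right s.2.ne_top]
    exact Ideal.comap_bot_of_injective _ (toFrac_injective k S))

include hd hd1 in
/-- Rational triviality over the function field spreads out to an open piece of the line. -/
theorem descend_line {W : Scheme.{u}} (a : W ⟶ Spec (CommRingCat.of k)) [LocallyOfFiniteType a] [QuasiCompact a]
    {δ : W → ℤ} (hδ : Cyc.DeltaCompat a δ (fun _ => 0))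
    {δ' : ↥(pullback a (Spec.map (CommRingCat.ofHom ((algebraMap k[X] (FractionRing k[X])).comp C)))) → ℤ}
    (hδ' : Cyc.DeltaCompat (pullback.snd a (Spec.map (CommRingCat.ofHom ((algebraMap k[X] (FractionRing k[X])).comp C))))
      δ' (fun _ => 0))
    {n : ℤ} (α : AlgebraicCycle W ℤ) (hα : α ∈ Cyc.Zk W δ n)
    (γ : AlgebraicCycle (pullback a (Spec.map (CommRingCat.ofHom ((algebraMap k[X] (FractionRing k[X])).comp C)))) ℤ)
    (hγ : ⇑γ = Cyc.pullFun (pullback.fst _ _) δ' δ 0 ⇑α) (h0 : Cyc.RatEquivZero δ' n γ) :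
    ∃ (f : k[X]) (_ : f ≠ 0) (δf : ↥(pullback a (Spec.map (pieceψ k f))) → ℤ)
      (_ : Cyc.DeltaCompat (pullback.snd a (Spec.map (pieceψ k f))) δf (pieceDim k d f))
      (αf : AlgebraicCycle (pullback a (Spec.map (pieceψ k f))) ℤ),
      ⇑αf = Cyc.pullFun (pullback.fst _ _) δf δ 0 ⇑α ∧ Cyc.RatEquivZero δf n αf := by
  classical
  obtain ⟨S, δS, hδS, αS, hαS, hS⟩ := descend ((algebraMap k[X] (FractionRing k[X])).comp C) (sys k)
    (fun S => CommRingCat.ofHom (toFrac k S)) (fun {S T} f => toFrac_trans k f)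
    (fun S => pieceψ k (den k S)) (fun {S T} f => pieceψ_trans k f) (fun S => pieceψ_toFrac k S)
    (fun S => toFrac_injective k S) (toFrac_surj k)
    (fun S => pieceDim k d (den k S)) (fun S => isSetup_pieceDim k hd (den k S))
    (fun {S T} f => flat_sys k f) (fun S => flat_toFrac k S) (fun S => flat_pieceψ k (den k S))
    (fun {S T} f s _ => pieceDim_trans k f s) (fun S s => pieceDim_toFrac k hd1 S s)
    (fun S s hmax => pieceDim_max k hd1 (den_ne_zero k S) s hmax)
    a hδ hδ' α hα γ hγ h0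
  exact ⟨den k S, den_ne_zero k S, δS, hδS, αS, hαS, hS⟩

include hd hdc hd1 in
/-- Specialisation at a closed point of the piece. -/
theorem specialise {W : Scheme.{u}} (a : W ⟶ Spec (CommRingCat.of k)) [LocallyOfFiniteType a]
    {δ : W → ℤ} (hδ : Cyc.DeltaCompat a δ (fun _ => 0)) {n : ℤ} (α : AlgebraicCycle W ℤ) (hα : α ∈ Cyc.Zk W δ n)
    {f : k[X]} (hf : f ≠ 0) {δf : ↥(pullback a (Spec.map (pieceψ k f))) → ℤ}
    (hδf : Cyc.DeltaCompat (pullback.snd a (Spec.map (pieceψ k f))) δf (pieceDim k d f))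
    (αf : AlgebraicCycle (pullback a (Spec.map (pieceψ k f))) ℤ)
    (hαf : ⇑αf = Cyc.pullFun (pullback.fst _ _) δf δ 0 ⇑α) (h0 : Cyc.RatEquivZero δf n αf) :
    ∃ m : ℤ, m ≠ 0 ∧ Cyc.RatEquivZero δ n (m • α) := by
  classical
  obtain ⟨π, hπ, hπS⟩ := exists_irreducible_not_dvd k hf
  haveI := isDomain_loc k hf
  let R := Localization.Away f
  let r : R := algebraMap k[X] R π
  have hr : r ≠ 0 := (map_ne_zero_iff _ (loc_injective k hf)).2 hπ.ne_zero
  haveI : (Ideal.span {π}).IsMaximal := PrincipalIdealRing.isMaximal_of_irreducible hπ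
  have hunit : IsUnit (Ideal.Quotient.mk (Ideal.span {π}) f) := by
    letI := Ideal.Quotient.field (Ideal.span {π})
    exact IsUnit.mk0 _ fun h => hπS (Ideal.mem_span_singleton.1 (Ideal.Quotient.eq_zero_iff_mem.1 h))
  let β : k[X] ⧸ Ideal.span {π} →+* R ⧸ Ideal.span {r} :=
    Ideal.quotientMap _ (algebraMap k[X] R) (by
      rw [Ideal.span_singleton_le_iff_mem]
      exact Ideal.mem_span_singleton_self r)
  have hβ : Function.Surjective β := fun y => by
    obtain ⟨y, rfl⟩ := Ideal.Quotient.mk_surjective y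
    obtain ⟨⟨p, m⟩, hm⟩ := IsLocalization.surj (Submonoid.powers f) y
    obtain ⟨i, hi⟩ := m.2
    obtain ⟨u, hu⟩ := hunit.pow i
    refine ⟨Ideal.Quotient.mk (Ideal.span {π}) p * ↑u⁻¹, ?_⟩
    have h1 : β (Ideal.Quotient.mk (Ideal.span {π}) p) = Ideal.Quotient.mk (Ideal.span {r}) y * β ↑u := by
      rw [hu, ← map_pow, show f ^ i = (m : k[X]) from hi]
      show Ideal.Quotient.mk _ _ = Ideal.Quotient.mk _ y * Ideal.Quotient.mk _ _
      rw [← map_mul]
      exact congrArg _ hm.symm
    rw [map_mul, h1, mul_assoc, ← map_mul, Units.mul_inv, map_one, mul_one]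
  let φQ : k →+* R ⧸ Ideal.span {r} := (Ideal.Quotient.mk _).comp (pieceψ k f).hom
  have hφQ : φQ.Finite := by
    have h : φQ = β.comp ((Ideal.Quotient.mk (Ideal.span {π})).comp C) := RingHom.ext fun _ => rfl
    rw [h]
    exact (RingHom.Finite.of_surjective β hβ).comp (finite_quot_C k hπ.ne_zero)
  have hφQeq : φQ = algebraMap k (R ⧸ Ideal.span {r}) := RingHom.ext fun _ => by
    show Ideal.Quotient.mk _ (algebraMap k[X] R (C _)) = _
    rw [← Polynomial.algebraMap_eq, ← IsScalarTower.algebraMap_apply]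
    rfl
  haveI : Nontrivial (R ⧸ Ideal.span {r}) := Ideal.Quotient.nontrivial_iff.2 fun h => by
    rw [Ideal.span_singleton_eq_top] at h
    obtain ⟨v, hv⟩ := h.exists_right_inv
    obtain ⟨⟨p, m⟩, hm⟩ := IsLocalization.surj (Submonoid.powers f) v
    obtain ⟨i, hi⟩ := m.2
    have h2 : algebraMap k[X] R (π * p) = algebraMap k[X] R (f ^ i) := by
      rw [map_mul, ← hm, show f ^ i = (m : k[X]) from hi, ← mul_assoc]
      show (r * v) * _ = _
      rw [hv, one_mul]
    exact hπS (hπ.prime.dvd_of_dvd_pow ⟨p, (loc_injective k hf h2).symm⟩)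
  let str := Spec.map (pieceψ k f)
  let p := pullback.fst a str
  let q := pullback.snd a str
  haveI : LocallyOfFiniteType str := by
    show LocallyOfFiniteType (Spec.map _)
    rw [map_pieceψ]; infer_instance
  haveI : Flat str := flat_pieceψ k f
  haveI : Flat p := MorphismProperty.of_isPullback (IsPullback.of_hasPullback a str).flip inferInstance
  haveI : LocallyOfFiniteType q := inferInstance
  haveI : Flat a := inferInstance
  haveI : Flat q := MorphismProperty.of_isPullback (IsPullback.of_hasPullback a str) inferInstance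
  have hX := Cyc26Split.isSetup_of_lft a (Cyc26Pn.isSetup_point k) hδ
  have hP := Cyc26Split.isSetup_of_lft q (isSetup_pieceDim k hd f) hδf
  haveI := hX.1
  haveI := hP.1
  have hmax : ∀ s, (∀ y, str y = str s → y ⤳ s → y = s) →
      pieceDim k d f s = (fun _ : ↥(Spec (CommRingCat.of k)) => (0 : ℤ)) (str s) + 0 :=
    fun s hs => (pieceDim_max k hd1 hf s hs).trans (add_zero _).symm
  let i₀ := zι (CommRingCat.of R) r
  let D := pullback q i₀
  let i : D ⟶ pullback a str := pullback.fst q i₀
  haveI : IsFinite (i₀ ≫ str) := by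
    show IsFinite (Spec.map _ ≫ Spec.map _)
    rw [← Spec.map_comp, IsFinite.SpecMap_iff]
    exact hφQ
  haveI : Flat (i₀ ≫ str) := by
    show Flat (Spec.map _ ≫ Spec.map _)
    rw [← Spec.map_comp, Flat.SpecMap_iff]
    show φQ.Flat
    rw [hφQeq]
    exact RingHom.flat_algebraMap_iff.2 Module.Flat.of_free
  have hDsq : IsPullback (i ≫ p) (pullback.snd q i₀) a (i₀ ≫ str) :=
    (IsPullback.of_hasPullback q i₀).paste_horiz (IsPullback.of_hasPullback a str)
  haveI : IsFinite (i ≫ p) := MorphismProperty.of_isPullback hDsq.flip inferInstance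
  haveI : Flat (i ≫ p) := MorphismProperty.of_isPullback hDsq.flip inferInstance
  have hiD : Cyc.DeltaCompat i (fun z => δf (i z) + 1) (fun z => δf z + 1) :=
    Bivar12.deltaCompat_surjStalks i fun z => δf z + 1
  have hstr : Cyc.DeltaCompat str (fun s => pieceDim k d f s + 1) (fun _ => 0) := by
    have h : (fun s => pieceDim k d f s + 1) = fun s => d (piece k f s) :=
      funext fun s => by show d _ + (-1) + 1 = _; ring
    rw [h, show str = piece k f ≫ lineStr k from map_pieceψ k f]
    exact Cyc26A.deltaCompat_comp _ _ (Bivar12.deltaCompat_surjStalks _ _) hdc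
  have hDδ : Cyc.DeltaCompat (i ≫ p) (fun z => δf (i z) + 1) δ := by
    refine Bivar12.deltaCompat_cancel (i ≫ p) a hδ ?_
    rw [Category.assoc, show p ≫ a = q ≫ str from pullback.condition]
    exact Cyc26A.deltaCompat_comp i _ hiD (Cyc26A.deltaCompat_comp q str (deltaCompat_add hδf 1) hstr)
  have hleD : ∀ z, δf (i z) ≤ δ (p (i z)) + (-1) := fun z => by
    have := Cyc26.delta_eq_of_finite (i ≫ p) hDδ z
    rw [Scheme.Hom.comp_apply] at this
    omega
  have hDset : Cyc.IsSetup D fun z => δf (i z) + 1 := Cyc26Split.isSetup_of_lft (i ≫ p) hX hDδ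
  haveI := hDset.1
  have hDdim : Cyc.IsDimFun D fun z => δf (i z) := by
    have := (isSetup_add hDset (-1)).2.2
    simpa using this
  obtain ⟨γD, hγD⟩ := Cyc26.exists_cycle_pullFun (i ≫ p) hDdim (c := -1) (δY := δ) (fun z _ => by
    have := Cyc26.delta_eq_of_finite (i ≫ p) hDδ z
    omega) α
  have hOinv := QAGen11.isInvertible_unit (Spec (CommRingCat.of R))
  have hL := Groth.Agent.Twist.isInvertible_pullback q hOinv
  have hZ := Bivar12.isZeroSchemeOf_pullback q (IsPullback.of_hasPullback q i₀) hOinv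
    (isZeroSchemeOf_zι (CommRingCat.of R) r)
  obtain ⟨t, ht⟩ := Cyc26.exists_sections hL
  have key := Cyc26.gysin_pullFun_restrict p hP.2.2 hX.2.2 (r := -1)
    (fun z => by rw [neg_add_cancel]; exact delta_le (IsPullback.of_hasPullback a str) hmax hδ hδf hP z)
    (fun z hz => by rw [neg_add_cancel]; exact delta_fibreMax (IsPullback.of_hasPullback a str) hmax hδ hδf z hz)
    hL (regular_pullSec (CommRingCat.of R) r q hr) i hZ hleD (k := n - 1) (α := α) (by rwa [sub_add_cancel]) (w := t)
  have h1 : Cyc.RatEquivZero (fun z => δf (i z)) (n - 1) γD :=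
    Cyc26.gysin_ratEquivZero hP.2.2 hL i hZ (α := αf) (by rwa [sub_add_cancel]) ht fun z => by
      rw [hγD, ← key z, neg_add_cancel, hαf]
  have h2 := ratEquivZero_add h1 1
  rw [sub_add_cancel] at h2
  haveI : Module.Finite k (R ⧸ Ideal.span {r}) := RingHom.finite_algebraMap.1 (hφQeq ▸ hφQ)
  have hrk : ∀ y, (i ≫ p).finrank y = Module.finrank k (R ⧸ Ideal.span {r}) := fun y => by
    rw [Scheme.Hom.finrank_of_isPullback (pullback.snd q i₀) (i ≫ p) _ a hDsq.flip y]
    have e1 : i₀ ≫ str = Spec.map (CommRingCat.ofHom (algebraMap k (R ⧸ Ideal.span {r}))) := by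
      show Spec.map _ ≫ Spec.map _ = _
      rw [← Spec.map_comp, ← hφQeq]
      rfl
    simp only [e1]
    rw [Scheme.Hom.finrank_SpecMap_algebraMap, Module.rankAtStalk_eq_finrank_of_free]
    rfl
  have hγD' : ⇑γD = Cyc.pullFun (i ≫ p) (fun z => δf (i z) + 1) δ 0 ⇑α := by
    have h := pullFun_add_left (i ≫ p) (fun z => δf (i z)) δ (-1) 1 ⇑α
    rw [neg_add_cancel] at h
    rw [hγD]; exact h.symm
  exact ⟨Module.finrank k (R ⧸ Ideal.span {r}), by exact_mod_cast Module.finrank_pos.ne',
    finitePush (i ≫ p) hDset hX hDδ hrk α hγD' h2⟩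

omit hd hdc hd1 in
/-- A line over a field: pullback along `k ⟶ k(X)` is injective up to torsion. -/
theorem inj_fractionRing : Inj ((algebraMap k[X] (FractionRing k[X])).comp C) := by
  classical
  intro W a _ _ δ hδ P₀ p₀ q₀ hsq₀ δ₀ hδ₀ n α hα γ₀ hγ₀ h00
  let φ : k →+* FractionRing k[X] := (algebraMap k[X] (FractionRing k[X])).comp C
  let P := pullback a (Spec.map (CommRingCat.ofHom φ))
  have hsqP := IsPullback.of_hasPullback a (Spec.map (CommRingCat.ofHom φ))
  let e : P ≅ P₀ := hsqP.isoIsPullback _ _ hsq₀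
  have hep : e.hom ≫ p₀ = pullback.fst _ _ := IsPullback.isoIsPullback_hom_fst _ _ _ _
  have heq : e.hom ≫ q₀ = pullback.snd _ _ := IsPullback.isoIsPullback_hom_snd _ _ _ _
  haveI : LocallyOfFiniteType q₀ := MorphismProperty.of_isPullback hsq₀ inferInstance
  have hδP : Cyc.DeltaCompat (pullback.snd a (Spec.map (CommRingCat.ofHom φ))) (fun x => δ₀ (e.hom x)) (fun _ => 0) :=
    heq ▸ Cyc26A.deltaCompat_comp e.hom q₀ (Bivar12.deltaCompat_surjStalks e.hom δ₀) hδ₀
  have hset0 := Cyc26Split.isSetup_of_lft q₀ (Cyc26Pn.isSetup_point _) hδ₀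
  have hsetP := Cyc26Split.isSetup_of_lft _ (Cyc26Pn.isSetup_point _) hδP
  haveI := hset0.1
  haveI : IsLocallyNoetherian P := hsetP.1
  have hce : ∀ x : P, (∀ w, e.hom w = e.hom x → w ⤳ x → w = x) → (fun x => δ₀ (e.hom x)) x = δ₀ (e.hom x) + 0 :=
    fun x _ => (add_zero _).symm
  obtain ⟨γ, hγ⟩ := Cyc26.exists_cycle_pullFun e.hom hsetP.2.2 hce γ₀
  have h0 : Cyc.RatEquivZero (fun x => δ₀ (e.hom x)) n γ := by
    have := Cyc26.ratEquivZero_pullFun e.hom hsetP.2.2 hset0.2.2 hce h00 γ hγ
    rwa [add_zero] at this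
  haveI : Flat (Spec.map (CommRingCat.ofHom φ)) := Cyc26.flat_specMap_field _
  have hc₀ := delta_fibreMax hsq₀ (c := 0) (fun _ _ => (add_zero _).symm) hδ hδ₀
  have hγ' : ⇑γ = Cyc.pullFun (pullback.fst a (Spec.map (CommRingCat.ofHom φ))) (fun x => δ₀ (e.hom x)) δ 0 ⇑α := by
    have h2 := (Cyc26.pullFun_comp_shift e.hom p₀ hsetP.2.2 hset0.2.2 hc₀ hce ⇑α).2
    rw [hep, add_zero] at h2
    rw [hγ, hγ₀]
    exact h2.symm
  obtain ⟨d, hd, hdc, hd1, -⟩ := exists_lineDim k
  obtain ⟨f, hf, δf, hδf, αf, hαf, hf0⟩ := descend_line k hd hd1 a hδ hδP α hα γ hγ' h0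
  exact specialise k hd hdc hd1 a hδ α hα hf hδf αf hαf hf0

end Groth.Agent.Cyc26C
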